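import Groth.Agent.GrassLib.SchClosed
import Groth.Agent.GrassLib.SchExtPow
import Groth.Agent.GrassLib.Free
import Groth.Agent.FinLFAnnLib.Main

/-!
# The standard charts of the Grassmannian of a locally free module
-/

set_option autoImplicit false
set_option linter.style.haveILetI false
set_option linter.unusedSectionVars false
set_option backward.isDefEq.respectTransparency false

universe u

open AlgebraicGeometry CategoryTheory CategoryTheory.Limits Opposite TopologicalSpace
open KFlatLib (pb puSec puSecLE)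
open ProjFormLib (ger ger_res IsFrame)
open GrassLib (ChartRing chartVar univCoord chartLift chartLift_var chartHom_ext Normal normal_univCoord stdTuple)
open GrassSch

noncomputable section

namespace FlagSchLib

theorem exists_chartRing_congr {R M M' : Type u} [CommRing R] [AddCommGroup M] [Module R M] [AddCommGroup M']
    [Module R M'] {k : ℕ} (e : M ≃ₗ[R] M') (x : Fin k → M) (y : Fin k → M') (hy : ∀ i, y i = e (x i)) :
    Nonempty (ChartRing R M x ≃ₐ[R] ChartRing R M' y) := by
  have h1 : Normal x ((univCoord (R := R) y).comp e.toLinearMap) := fun i => by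
    rw [LinearMap.comp_apply, LinearEquiv.coe_coe, ← hy]
    exact normal_univCoord y i
  have h2 : Normal y ((univCoord (R := R) x).comp e.symm.toLinearMap) := fun i => by
    rw [LinearMap.comp_apply, LinearEquiv.coe_coe, hy, LinearEquiv.symm_apply_apply]
    exact normal_univCoord x i
  refine ⟨AlgEquiv.ofAlgHom (chartLift h1) (chartLift h2) ?_ ?_⟩
  · refine chartHom_ext (LinearMap.ext fun m => funext fun j => ?_)
    show chartLift h1 (chartLift h2 (chartVar y m j)) = chartVar y m j
    rw [chartLift_var]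
    show chartLift h1 (chartVar x (e.symm m) j) = _
    rw [chartLift_var]
    show chartVar y (e (e.symm m)) j = _
    rw [LinearEquiv.apply_symm_apply]
  · refine chartHom_ext (LinearMap.ext fun m => funext fun j => ?_)
    show chartLift h2 (chartLift h1 (chartVar x m j)) = chartVar x m j
    rw [chartLift_var]
    show chartLift h2 (chartVar y (e m) j) = _
    rw [chartLift_var]
    show chartVar x (e.symm (e m)) j = _
    rw [LinearEquiv.symm_apply_apply]

/-- Two standard tuples of the same length are the basis for a common normal map. -/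
theorem exists_normal_two {r N : ℕ} (σ τ : Fin r ↪ Fin N) :
    ∃ (f : Fin N → Option (Fin r)) (p : Fin r → Fin r),
      (∀ j, f (σ j) = some j) ∧ (∀ j, f (τ j) = some (p j)) ∧ Function.Bijective p := by
  classical
  let S := Finset.univ.map σ
  let T := Finset.univ.map τ
  have hcard : (T \ S).card = (S \ T).card :=
    Finset.card_sdiff_comm (by simp [S, T])
  let e : ↥(T \ S) ≃ ↥(S \ T) := Finset.equivOfCardEq hcard
  let h : Fin N → Fin N := fun i => if hi : i ∈ T \ S then (e ⟨i, hi⟩).1 else i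
  have hσ : ∀ j, h (σ j) = σ j := fun j => dif_neg (by simp [S])
  have hS : ∀ j, h (τ j) ∈ S := fun j => by
    by_cases hj : τ j ∈ T \ S
    · simp only [h, dif_pos hj]
      exact (Finset.mem_sdiff.1 (e ⟨_, hj⟩).2).1
    · simp only [h, dif_neg hj]
      by_contra hjS
      exact hj (Finset.mem_sdiff.2 ⟨by simp [T], hjS⟩)
  have hex : ∀ j, ∃ i, σ i = h (τ j) := fun j => by simpa [S] using hS j
  choose p hp using hex
  have hinj : Function.Injective p := fun a b hab => by
    have hh : h (τ a) = h (τ b) := by rw [← hp, ← hp, hab]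
    by_cases ha : τ a ∈ T \ S <;> by_cases hb : τ b ∈ T \ S
    · simp only [h, dif_pos ha, dif_pos hb] at hh
      exact τ.injective (congrArg Subtype.val (e.injective (Subtype.ext hh)))
    · simp only [h, dif_pos ha, dif_neg hb] at hh
      exact absurd (hh.symm ▸ (e ⟨_, ha⟩).2 : τ b ∈ S \ T) (by simp [T])
    · simp only [h, dif_neg ha, dif_pos hb] at hh
      exact absurd (hh.symm ▸ (e ⟨_, hb⟩).2 : τ a ∈ S \ T) (by simp [T])
    · simp only [h, dif_neg ha, dif_neg hb] at hh
      exact τ.injective hh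
  have hpre : ∀ i ∈ S, ∃ j, σ j = i := fun i hi => by simpa [S] using hi
  refine ⟨fun i => if hi : h i ∈ S then some (hpre _ hi).choose else none, p, fun j => ?_, fun j => ?_,
    Finite.injective_iff_bijective.1 hinj⟩
  · have hm : h (σ j) ∈ S := by rw [hσ]; simp [S]
    simp only [dif_pos hm, Option.some.injEq]
    exact σ.injective ((hpre _ hm).choose_spec.trans (hσ j))
  · simp only [dif_pos (hS j), Option.some.injEq]
    exact σ.injective ((hpre _ (hS j)).choose_spec.trans (hp j).symm)

variable {X G : Scheme.{u}} {π : G ⟶ X} {E : X.Modules} {r : ℕ} {Q : G.Modules} {q : pb π E ⟶ Q}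

theorem isQCoh_of_rank {N : ℕ} (hE : FlatMod.IsFinLocFreeOfRank N E) : Coh.IsQCoh E :=
  FinLFAnn.isQCoh_of_isFinLocFree (finLocFree_of_rank hE)

theorem exists_frame_affine {N : ℕ} (hE : FlatMod.IsFinLocFreeOfRank N E) (y : X) :
    ∃ (U : X.Opens) (b : Fin N → Γ(E, U)), IsAffineOpen U ∧ y ∈ U ∧ IsFrame E b := by
  obtain ⟨O, b, hO, hb⟩ := SeesawLib.rankSet_of_rank hE y
  obtain ⟨U, hUa, hyU, hle⟩ := exists_isAffineOpen_mem_and_subset (X := X) (x := y) (U := O) hO
  exact ⟨U, _, hUa, hyU, hb.res hle⟩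

variable {U : X.Opens} {N : ℕ} {b : Fin N → Γ(E, U)}

theorem bijective_comb_frame (hb : IsFrame E b) :
    Function.Bijective (Fintype.linearCombination Γ(X, U) b) := by
  have h := bijective_comb_open hb (le_refl U)
  simpa [AmpleLib.res_refl] using h

theorem exists_chart_equiv (hb : IsFrame E b) (σ : Fin r ↪ Fin N) :
    Nonempty (ChartRing Γ(X, U) Γ(E, U) (fun j => b (σ j)) ≃ₐ[Γ(X, U)]
      MvPolynomial (ULift.{u} (Fin (r * (N - r)))) Γ(X, U)) := by
  classical
  let L := LinearEquiv.ofBijective _ (bijective_comb_frame hb)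
  obtain ⟨e₁⟩ := exists_chartRing_congr L.symm (fun j => b (σ j)) (stdTuple Γ(X, U) σ) fun i => by
    refine L.injective ?_
    rw [LinearEquiv.apply_symm_apply]
    show Fintype.linearCombination Γ(X, U) b (Pi.single (σ i) 1) = _
    simp
  obtain ⟨e₂⟩ := GrassLib.nonempty_chart_equiv (R := Γ(X, U)) (n := N) σ
  exact ⟨e₁.trans e₂⟩

variable (hG : Grass.IsGrass π E r Q q)

/-- The open chart of a choice of members of a frame. -/
def chart (σ : Fin r ↪ Fin N) (b : Fin N → Γ(E, U)) : G.Opens := (univPt hG).locOpen fun j => b (σ j)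

theorem mem_chart_iff (σ : Fin r ↪ Fin N) (z : G) :
    z ∈ chart hG σ b ↔ (univPt hG).InLoc (fun j => b (σ j)) z := Iff.rfl

theorem exists_chart_iso [Coh.IsQCoh E] (hU : IsAffineOpen U) (hb : IsFrame E b) (σ : Fin r ↪ Fin N) :
    ∃ e : (chart hG σ b).toScheme ≅
        Spec (CommRingCat.of (MvPolynomial (ULift.{u} (Fin (r * (N - r)))) Γ(X, U))),
      e.hom ≫ Spec.map (CommRingCat.ofHom MvPolynomial.C) ≫ hU.fromSpec = (chart hG σ b).ι ≫ π := by
  obtain ⟨a, ha⟩ := exists_locIso hU hG fun j => b (σ j)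
  obtain ⟨e⟩ := exists_chart_equiv (E := E) (r := r) hb σ
  refine ⟨a ≪≫ Scheme.Spec.mapIso e.symm.toRingEquiv.toCommRingCatIso.op, ?_⟩
  have hg : a.hom ≫ chStr (fun j => b (σ j)) hU = (chart hG σ b).ι ≫ π := ha.1
  rw [← hg, Iso.trans_hom, Category.assoc, chStr]
  refine congrArg (a.hom ≫ ·) ?_
  rw [← Category.assoc]
  refine congrArg (· ≫ hU.fromSpec) ?_
  show Spec.map _ ≫ Spec.map _ = Spec.map _
  rw [← Spec.map_comp]
  congr 1
  ext c
  exact e.symm.commutes c

theorem exists_mem_chart [Coh.IsQCoh E] (hU : IsAffineOpen U) (hb : IsFrame E b) {z : G} (hz : π z ∈ U) :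
    ∃ σ : Fin r ↪ Fin N, z ∈ chart hG σ b := by
  classical
  let P := univPt hG
  let V : G.Opens := P.g ⁻¹ᵁ U
  let P' := P.map V.ι
  have hg : ⊤ ≤ P'.g ⁻¹ᵁ U := fun w _ => w.2
  let z' : (V : Scheme.{u}) := ⟨z, hz⟩
  let v : Γ(E, U) → CohCmpLib.stk P'.L z' := fun m => ger P'.L z' (U := ⊤) trivial (P'.secT hg m)
  obtain ⟨W, β, hW, hβ⟩ := SeesawLib.rankSet_of_rank P'.inv z'
  obtain ⟨x₀, hx₀⟩ := QPt.exists_inLoc hU P' (z := z') (hg trivial)
  have hspan : Submodule.span ((V : Scheme.{u}).presheaf.stalk z') (Set.range fun i => v (b i)) = ⊤ := by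
    refine eq_top_iff.2 fun w _ => ?_
    obtain ⟨hz₀, hbij⟩ := hx₀
    obtain ⟨c, rfl⟩ := hbij.2 w
    rw [Fintype.linearCombination_apply]
    refine Submodule.sum_mem _ fun j _ => Submodule.smul_mem _ _ ?_
    rw [← P'.ger_secT hg]
    obtain ⟨d, hd⟩ := (bijective_comb_frame hb).2 (x₀ j)
    rw [← hd, Fintype.linearCombination_apply, map_sum]
    simp only [P'.secT_smul hg]
    rw [SeesawLib.ger_sum_smul]
    exact Submodule.sum_mem _ fun i _ => Submodule.smul_mem _ _ (Submodule.subset_span ⟨i, rfl⟩)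
  obtain ⟨s, hs⟩ := exists_comb_bijective (hβ z' hW) (fun i => v (b i)) hspan
  have hinj : Function.Injective s := fun i j hij => by
    by_contra hne
    have h1 := @hs.1 (Pi.single i 1) (Pi.single j 1) (by simp [hij])
    exact (one_ne_zero : (1 : (V : Scheme.{u}).presheaf.stalk z') ≠ 0) (by simpa [Pi.single_apply, hne] using congrFun h1 i)
  refine ⟨⟨s, hinj⟩, (QPt.inLoc_map_iff V.ι P (fun j => b (s j)) z').1 ⟨hg trivial, ?_⟩⟩
  simp only [v, P'.ger_secT hg _ z' (hg trivial)] at hs
  exact hs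

theorem exists_pt_two_charts [Coh.IsQCoh E] (hU : IsAffineOpen U) (hb : IsFrame E b) (σ τ : Fin r ↪ Fin N)
    {y : X} (hy : y ∈ U) : (chart hG σ b ⊓ chart hG τ b : G.Opens).1.Nonempty := by
  classical
  obtain ⟨f, p, hfσ, hfτ, hp⟩ := exists_normal_two σ τ
  let K : Type u := (hU.primeIdealOf ⟨y, hy⟩).asIdeal.ResidueField
  let L := LinearEquiv.ofBijective _ (bijective_comb_frame hb)
  let φ : Γ(E, U) →ₗ[Γ(X, U)] (Fin r → K) :=
    ((Pi.basisFun Γ(X, U) (Fin N)).constr Γ(X, U) fun i j => if f i = some j then (1 : K) else 0).comp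
      L.symm.toLinearMap
  have hφb : ∀ i, φ (b i) = fun j => if f i = some j then (1 : K) else 0 := fun i => by
    have h1 : L.symm (b i) = Pi.basisFun Γ(X, U) (Fin N) i := by
      refine L.injective ?_
      rw [LinearEquiv.apply_symm_apply]
      show _ = Fintype.linearCombination Γ(X, U) b _
      simp
    simp only [φ, LinearMap.comp_apply, LinearEquiv.coe_coe, h1, Module.Basis.constr_basis]
  have hφ : Normal (fun j => b (σ j)) φ := fun i => funext fun j => by
    rw [hφb, hfσ]
    simp [Pi.single_apply, eq_comm]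
  let x : Fin r → Γ(E, U) := fun j => b (σ j)
  let ψ : ChartRing Γ(X, U) Γ(E, U) x →+* K := (chartLift hφ).toRingHom
  let a : Spec (CommRingCat.of K) ⟶ chSch E x := Spec.map (CommRingCat.ofHom ψ)
  let P := (chPt x hU).map a
  have hP := map_inLoc x hU a
  have hPg := map_le x hU a
  have hsec : ∀ j, P.secT hPg (b (τ j)) = P.secT hPg (x (p j)) := fun j => by
    have hc : P.crd hP hPg (b (τ j)) = P.crd hP hPg (x (p j)) := by
      rw [map_crd, map_crd]
      funext l
      show ((Spec.map (CommRingCat.ofHom ψ)).appTop) ((Scheme.ΓSpecIso _).inv (chartVar x _ l)) =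
        ((Spec.map (CommRingCat.ofHom ψ)).appTop) ((Scheme.ΓSpecIso _).inv (chartVar x _ l))
      rw [← CommRingCat.comp_apply, ← CommRingCat.comp_apply, ← Scheme.ΓSpecIso_inv_naturality,
        CommRingCat.comp_apply, CommRingCat.comp_apply]
      refine congrArg _ ?_
      show chartLift hφ (chartVar x _ l) = chartLift hφ (chartVar x _ l)
      rw [chartLift_var, chartLift_var, hφb, hφb, hfτ, hfσ]
    rw [← P.sum_crd hP hPg (b (τ j)), ← P.sum_crd hP hPg (x (p j)), hc]
  obtain ⟨h, hh⟩ := exists_classify hG P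
  let z₀ : Spec (CommRingCat.of K) := IsLocalRing.closedPoint K
  have hσ : (univPt hG).InLoc x (h z₀) :=
    (QPt.inLoc_map_iff h (univPt hG) x z₀).1 (QPt.inLoc_of_rel hh.symm (hP z₀))
  have hτ' : P.InLoc (fun j => b (τ j)) z₀ := by
    obtain ⟨hz, hbij⟩ := hP z₀
    refine ⟨hz, ?_⟩
    have heq : (fun j => ger P.L z₀ (U := P.g ⁻¹ᵁ U) hz (P.sec0 (b (τ j)))) =
        (fun j => ger P.L z₀ (U := P.g ⁻¹ᵁ U) hz (P.sec0 (x j))) ∘ p := funext fun j => by
      rw [Function.comp_apply, ← P.ger_secT hPg _ z₀ hz, ← P.ger_secT hPg _ z₀ hz, hsec]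
    let v := fun j => ger P.L z₀ (U := P.g ⁻¹ᵁ U) hz (P.sec0 (x j))
    let e := Equiv.ofBijective p hp
    have hcomp : ⇑(Fintype.linearCombination ((Spec (CommRingCat.of K)).presheaf.stalk z₀) (v ∘ p)) =
        ⇑(Fintype.linearCombination ((Spec (CommRingCat.of K)).presheaf.stalk z₀) v) ∘ fun c => c ∘ e.symm := by
      funext c
      simp only [Function.comp_apply, Fintype.linearCombination_apply]
      rw [← Equiv.sum_comp e (fun l => c (e.symm l) • v l)]
      exact Finset.sum_congr rfl fun j _ => by simp only [Equiv.symm_apply_apply]; rfl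
    rw [heq, hcomp]
    exact hbij.comp ⟨fun c d hcd => funext fun i => by simpa using congrFun hcd (e i),
      fun c => ⟨c ∘ e, funext fun i => by simp⟩⟩
  have hτ : (univPt hG).InLoc (fun j => b (τ j)) (h z₀) :=
    (QPt.inLoc_map_iff h (univPt hG) _ z₀).1 (QPt.inLoc_of_rel hh.symm hτ')
  exact ⟨h z₀, hσ, hτ⟩

end FlagSchLib

end
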