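import Groth.Agent.FlagSchLib.Props
import Groth.Agent.GrassLib.SchFlag

/-!
# Flag schemes of locally free modules as towers of Grassmannians
-/

set_option autoImplicit false
set_option linter.style.haveILetI false
set_option linter.unusedSectionVars false
set_option backward.isDefEq.respectTransparency false

universe u

open AlgebraicGeometry CategoryTheory CategoryTheory.Limits Opposite TopologicalSpace
open KFlatLib (pb puSec)
open GrassSch

noncomputable section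

namespace FlagSchLib

variable {X F F' : Scheme.{u}} {π : F ⟶ X} {π' : F' ⟶ X} {E : X.Modules}

theorem bc_step {Q : F.Modules} (q : pb π E ⟶ Q) {c : F' ⟶ F} (w : c ≫ π = π') {Q' : F'.Modules}
    {q' : pb π' E ⟶ Q'} (ι : pb c Q ≅ Q') (hι : Grass.quotBC w q ≫ ι.hom = q') {T : Scheme.{u}} {k : T ⟶ F'}
    {g : T ⟶ F} {gX : T ⟶ X} (hg : k ≫ c = g) (hk : k ≫ π' = gX) (hgh : g ≫ π = gX) :
    Grass.quotBC hk q' ≫ (Scheme.Modules.pullback k).map ι.inv ≫ (Scheme.Modules.pullbackComp k c).hom.app Q ≫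
      (Scheme.Modules.pullbackCongr hg).hom.app Q = Grass.quotBC hgh q := by
  rw [← Category.assoc, ← quotBC_comp_map, show q' ≫ ι.inv = Grass.quotBC w q by
    rw [← hι, Category.assoc, Iso.hom_inv_id, Category.comp_id]]
  exact quotBC_trans q w hg hk hgh

/-- The transported isomorphism along a composite. -/
def stepIso {Q : F.Modules} {c : F' ⟶ F} {Q' : F'.Modules} (ι : pb c Q ≅ Q') {T : Scheme.{u}} (k : T ⟶ F')
    {g : T ⟶ F} (hg : k ≫ c = g) : pb k Q' ≅ pb g Q :=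
  (Scheme.Modules.pullback k).mapIso ι.symm ≪≫ (Scheme.Modules.pullbackComp k c).app Q ≪≫
    (Scheme.Modules.pullbackCongr hg).app Q

theorem stepIso_spec {Q : F.Modules} (q : pb π E ⟶ Q) {c : F' ⟶ F} (w : c ≫ π = π') {Q' : F'.Modules}
    {q' : pb π' E ⟶ Q'} (ι : pb c Q ≅ Q') (hι : Grass.quotBC w q ≫ ι.hom = q') {T : Scheme.{u}} {k : T ⟶ F'}
    {g : T ⟶ F} {gX : T ⟶ X} (hg : k ≫ c = g) (hk : k ≫ π' = gX) (hgh : g ≫ π = gX) :
    Grass.quotBC hk q' ≫ (stepIso ι k hg).hom = Grass.quotBC hgh q := by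
  rw [← bc_step q w ι hι hg hk hgh]
  simp only [stepIso, Iso.trans_hom, Functor.mapIso_hom, Iso.symm_hom, Iso.app_hom]

theorem quotBC_id {Q : F.Modules} (q : pb π E ⟶ Q) :
    Grass.quotBC (Category.id_comp π) q ≫ ((Scheme.Modules.pullbackId F).app Q).hom = q := by
  refine hom_ext_pu _ _ _ fun W m => ?_
  refine (quotBC_app q _ _ m).trans ?_
  refine (congrArg (Q.presheaf.map _) (pullbackId_puSec (q.app (π ⁻¹ᵁ W) (puSec π m)))).trans ?_
  exact congr($(Q.presheaf.map_id _) _)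

section Snoc

variable {m : ℕ} {n : Fin (m + 2) → ℕ} {Q : Fin (m + 1) → F.Modules} {q : ∀ i, pb π E ⟶ Q i}

/-- A Grassmannian over a flag scheme is a flag scheme. -/
theorem isFlag_snoc (hF : Grass.IsFlag π E (fun i => n (Fin.castSucc i)) Q q) {Q' : Fin (m + 2) → F'.Modules}
    {q' : ∀ i, pb π' E ⟶ Q' i} (c : F' ⟶ F) (w : c ≫ π = π')
    (ι : ∀ i : Fin (m + 1), pb c (Q i) ≅ Q' (Fin.castSucc i))
    (hι : ∀ i, Grass.quotBC w (q i) ≫ (ι i).hom = q' (Fin.castSucc i))
    (t : Q' (Fin.castSucc (Fin.last m)) ⟶ Q' (Fin.last (m + 1)))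
    (ht : q' (Fin.castSucc (Fin.last m)) ≫ t = q' (Fin.last (m + 1)))
    (hG : Grass.IsGrass c (Q (Fin.last m)) (n (Fin.last (m + 1))) (Q' (Fin.last (m + 1))) ((ι (Fin.last m)).hom ≫ t)) :
    Grass.IsFlag π' E n Q' q' where
  rank := Fin.lastCases hG.rank fun i => rank_of_iso (SeesawLib.isFinLocFreeOfRank_pullback c (hF.rank i)) (ι i).symm
  epi := by
    have h : ∀ i, Epi (q' (Fin.castSucc i)) := fun i => by
      rw [← hι i]
      exact epi_comp' (haveI := hF.epi i; epi_quotBC _ _) inferInstance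
    refine Fin.lastCases ?_ h
    haveI := hG.epi
    haveI : Epi t := epi_of_epi (ι (Fin.last m)).hom t
    rw [← ht]
    exact epi_comp' (h _) inferInstance
  nested := by
    refine Fin.lastCases (fun j hj => ?_) fun i => ?_
    · obtain rfl := Fin.last_le_iff.1 hj
      exact ⟨𝟙 _, Category.comp_id _⟩
    · refine Fin.lastCases (fun _ => ?_) fun j hj => ?_
      · obtain ⟨u, hu⟩ := hF.nested i (Fin.last m) (Fin.le_last i)
        refine ⟨(ι i).inv ≫ (Scheme.Modules.pullback c).map u ≫ (ι (Fin.last m)).hom ≫ t, ?_⟩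
        rw [← ht, ← hι i, ← hι (Fin.last m), ← hu, quotBC_comp_map]
        simp only [Category.assoc, Iso.hom_inv_id_assoc]
      · obtain ⟨u, hu⟩ := hF.nested i j (Fin.castSucc_le_castSucc_iff.1 hj)
        refine ⟨(ι i).inv ≫ (Scheme.Modules.pullback c).map u ≫ (ι j).hom, ?_⟩
        rw [← hι i, ← hι j, ← hu, quotBC_comp_map]
        simp only [Category.assoc, Iso.hom_inv_id_assoc]
  univ T g L hL s hs hn := by
    obtain ⟨h₀, ⟨hh₀, e₀, he₀⟩, huniq₀⟩ := hF.univ T g (fun i => L (Fin.castSucc i)) (fun i => hL _)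
      (fun i => s (Fin.castSucc i)) (fun i => hs _)
      (fun i j hij => hn _ _ (Fin.castSucc_le_castSucc_iff.2 hij))
    obtain ⟨u, hu⟩ := hn (Fin.castSucc (Fin.last m)) (Fin.last (m + 1)) (Fin.le_last _)
    haveI := hs (Fin.last (m + 1))
    haveI : Epi u := epi_of_epi_fac hu
    haveI : Epi ((e₀ (Fin.last m)).hom ≫ u) := epi_comp' inferInstance inferInstance
    obtain ⟨k, ⟨hkc, f, hf⟩, huniqG⟩ := hG.univ T h₀ (L (Fin.last (m + 1))) (hL _) ((e₀ (Fin.last m)).hom ≫ u)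
      inferInstance
    have hk : k ≫ π' = g := by rw [← w, ← Category.assoc, hkc, hh₀]
    have hlast : ∀ (k : T ⟶ F') (h₀ : T ⟶ F) (hg : k ≫ c = h₀) (hk : k ≫ π' = g) (hh : h₀ ≫ π = g),
        Grass.quotBC hk (q' (Fin.last (m + 1))) =
          Grass.quotBC hh (q (Fin.last m)) ≫ Grass.quotBC hg ((ι (Fin.last m)).hom ≫ t) := fun k h₀ hg hk hh => by
      subst hh
      rw [← quotBC_quotBC (q (Fin.last m)) _ w hg hk, ← Category.assoc, hι, ht]
    refine ⟨k, ⟨hk, fun i => Fin.lastCases (motive := fun i => pb k (Q' i) ≅ L i) f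
      (fun j => stepIso (ι j) k hkc ≪≫ e₀ j) i, ?_⟩, ?_⟩
    · refine Fin.lastCases ?_ fun j => ?_
      · simp only [Fin.lastCases_last]
        rw [hlast k h₀ hkc hk hh₀, Category.assoc, hf, ← Category.assoc, he₀, hu]
      · simp only [Fin.lastCases_castSucc]
        rw [Iso.trans_hom, ← Category.assoc, stepIso_spec (q j) w (ι j) (hι j) hkc hk hh₀, he₀]
    · rintro k' ⟨hk', e', he'⟩
      have hh' : (k' ≫ c) ≫ π = g := by rw [Category.assoc, w, hk']
      have heq : k' ≫ c = h₀ := huniq₀ (k' ≫ c) ⟨hh', fun j => (stepIso (ι j) k' rfl).symm ≪≫ e' (Fin.castSucc j),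
        fun j => by
          rw [← stepIso_spec (q j) w (ι j) (hι j) rfl hk' hh', Iso.trans_hom, Iso.symm_hom, Category.assoc,
            Iso.hom_inv_id_assoc, he']⟩
      refine huniqG k' ⟨heq, e' (Fin.last (m + 1)), ?_⟩
      haveI : Epi (Grass.quotBC hh₀ (q (Fin.last m))) := haveI := hF.epi (Fin.last m); epi_quotBC _ _
      rw [← cancel_epi (Grass.quotBC hh₀ (q (Fin.last m))), ← Category.assoc, ← hlast k' h₀ heq hk' hh₀, he',
        ← Category.assoc, he₀, hu]

end Snoc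

theorem isFlag_of_grass {n : Fin 1 → ℕ} {Q : F.Modules} {q : pb π E ⟶ Q} (hG : Grass.IsGrass π E (n 0) Q q) :
    Grass.IsFlag π E n (fun _ => Q) (fun _ => q) where
  rank i := by rw [Fin.eq_zero i]; exact hG.rank
  epi _ := hG.epi
  nested _ _ _ := ⟨𝟙 _, Category.comp_id _⟩
  univ T g L hL s hs hn := by
    obtain ⟨h, ⟨hg, e, he⟩, huniq⟩ := hG.univ T g (L 0) (hL 0) (s 0) (hs 0)
    refine ⟨h, ⟨hg, fun i => Fin.cases (motive := fun i => pb h Q ≅ L i) e (fun j => j.elim0) i, fun i => ?_⟩,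
      fun h' hh' => ?_⟩
    · refine Fin.cases ?_ (fun j => j.elim0) i
      simpa using he
    · obtain ⟨hg', e', he'⟩ := hh'
      exact huniq h' ⟨hg', e' 0, he' 0⟩

theorem isGrass_of_flag {n : Fin 1 → ℕ} {Q : Fin 1 → F.Modules} {q : ∀ i, pb π E ⟶ Q i}
    (hF : Grass.IsFlag π E n Q q) : Grass.IsGrass π E (n 0) (Q 0) (q 0) where
  rank := hF.rank 0
  epi := hF.epi 0
  univ T g L hL s hs := by
    obtain ⟨h, ⟨hg, e, he⟩, huniq⟩ := hF.univ T g (fun _ => L) (fun i => by rw [Fin.eq_zero i]; exact hL)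
      (fun _ => s) (fun _ => hs) (fun _ _ _ => ⟨𝟙 _, Category.comp_id _⟩)
    refine ⟨h, ⟨hg, e 0, he 0⟩, fun h' hh' => ?_⟩
    obtain ⟨hg', e', he'⟩ := hh'
    refine huniq h' ⟨hg', fun i => Fin.cases (motive := fun i => pb h' (Q i) ≅ L) e' (fun j => j.elim0) i, fun i => ?_⟩
    refine Fin.cases ?_ (fun j => j.elim0) i
    simpa using he'

theorem isIso_of_flag_zero {n : Fin 0 → ℕ} {Q : Fin 0 → F.Modules} {q : ∀ i, pb π E ⟶ Q i}
    (hF : Grass.IsFlag π E n Q q) : IsIso π := by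
  obtain ⟨h, ⟨hh, -, -⟩, -⟩ := hF.univ X (𝟙 X) (fun i => i.elim0) (fun i => i.elim0) (fun i => i.elim0)
    (fun i => i.elim0) (fun i => i.elim0)
  refine ⟨h, ?_, hh⟩
  refine (hF.univ F π (fun i => i.elim0) (fun i => i.elim0) (fun i => i.elim0)
    (fun i => i.elim0) (fun i => i.elim0)).unique ⟨?_, fun i => i.elim0, fun i => i.elim0⟩
    ⟨Category.id_comp _, fun i => i.elim0, fun i => i.elim0⟩
  rw [Category.assoc, hh, Category.comp_id]

theorem exists_isFlag {N : ℕ} (hE : FlatMod.IsFinLocFreeOfRank N E) : ∀ (m : ℕ) (n : Fin m → ℕ),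
    ∃ (F : Scheme.{u}) (π : F ⟶ X) (Q : Fin m → F.Modules) (q : ∀ i, pb π E ⟶ Q i), Grass.IsFlag π E n Q q
  | 0, n => ⟨X, 𝟙 X, fun i => i.elim0, fun i => i.elim0,
      { rank := fun i => i.elim0
        epi := fun i => i.elim0
        nested := fun i => i.elim0
        univ := fun T g L _ s _ _ => ⟨g, ⟨Category.comp_id g, fun i => i.elim0, fun i => i.elim0⟩,
          fun h ⟨hh, _⟩ => (Category.comp_id h).symm.trans hh⟩ }⟩
  | 1, n => by
    haveI := isQCoh_of_rank hE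
    obtain ⟨G, π, Q, q, hG⟩ := exists_isGrass E (n 0)
    exact ⟨G, π, _, _, isFlag_of_grass hG⟩
  | m + 2, n => by
    obtain ⟨F, π, Q, q, hF⟩ := exists_isFlag hE (m + 1) fun i => n (Fin.castSucc i)
    haveI := isQCoh_of_rank (hF.rank (Fin.last m))
    obtain ⟨F', c, Q₂, t, hG⟩ := exists_isGrass (Q (Fin.last m)) (n (Fin.last (m + 1)))
    let Q' : Fin (m + 2) → F'.Modules := fun i =>
      Fin.lastCases (motive := fun _ => F'.Modules) Q₂ (fun j => pb c (Q j)) i
    let a : ∀ i : Fin (m + 1), pb c (Q i) ≅ Q' (Fin.castSucc i) := fun i =>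
      (eqToIso (Fin.lastCases_castSucc (motive := fun _ => F'.Modules) (last := Q₂) (cast := fun j => pb c (Q j)) i)).symm
    let b : Q' (Fin.last (m + 1)) ≅ Q₂ := eqToIso (Fin.lastCases_last (motive := fun _ => F'.Modules))
    let qs : ∀ i, pb (c ≫ π) E ⟶ pb c (Q i) := fun i => Grass.quotBC (rfl : c ≫ π = c ≫ π) (q i)
    let q' : ∀ i, pb (c ≫ π) E ⟶ Q' i := fun i => Fin.lastCases (motive := fun i => pb (c ≫ π) E ⟶ Q' i)
      (qs (Fin.last m) ≫ t ≫ b.inv) (fun j => qs j ≫ (a j).hom) i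
    refine ⟨F', c ≫ π, Q', q', isFlag_snoc hF c rfl a (fun i => (Fin.lastCases_castSucc (motive := fun i => pb (c ≫ π) E ⟶ Q' i) (last := qs (Fin.last m) ≫ t ≫ b.inv) (cast := fun j => qs j ≫ (a j).hom) i).symm)
      ((a (Fin.last m)).inv ≫ t ≫ b.inv) ?_ ?_⟩
    · simp only [q', Fin.lastCases_castSucc, Fin.lastCases_last, Category.assoc, Iso.hom_inv_id_assoc]
    · rw [Iso.hom_inv_id_assoc]
      exact
        { rank := rank_of_iso hG.rank b
          epi := haveI := hG.epi; epi_comp' hG.epi inferInstance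
          univ := fun T g L hL s hs => by
            obtain ⟨h, ⟨hh, e, he⟩, huniq⟩ := hG.univ T g L hL s hs
            refine ⟨h, ⟨hh, (Scheme.Modules.pullback h).mapIso b ≪≫ e, ?_⟩, fun h' ⟨hh', e', he'⟩ => huniq h'
              ⟨hh', (Scheme.Modules.pullback h').mapIso b.symm ≪≫ e', ?_⟩⟩
            · rw [quotBC_comp_map, Iso.trans_hom, Functor.mapIso_hom, Category.assoc, ← Functor.map_comp_assoc,
                Iso.inv_hom_id, CategoryTheory.Functor.map_id, Category.id_comp, he]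
            · rw [← he', quotBC_comp_map, Iso.trans_hom, Functor.mapIso_hom, Iso.symm_hom]
              simp only [Grass.quotBC, Category.assoc] }

/-- The last step of a flag scheme of a locally free module. -/
theorem exists_step {N m : ℕ} (hE : FlatMod.IsFinLocFreeOfRank N E) {n : Fin (m + 1) → ℕ}
    {Q : Fin (m + 1) → F.Modules} {q : ∀ i, pb π E ⟶ Q i} (hF : Grass.IsFlag π E n Q q)
    {Q' : Fin m → F'.Modules} {q' : ∀ i, pb π' E ⟶ Q' i}
    (hF' : Grass.IsFlag π' E (fun i => n (Fin.castSucc i)) Q' q') :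
    ∃ c : F ⟶ F', (∃ w : c ≫ π' = π, ∀ i : Fin m, ∃ ι : pb c (Q' i) ≅ Q (Fin.castSucc i),
        Grass.quotBC w (q' i) ≫ ι.hom = q (Fin.castSucc i)) ∧
      ∃ (E' : F'.Modules) (Q₂ : F.Modules) (t : pb c E' ⟶ Q₂),
        FlatMod.IsFinLocFreeOfRank ((Fin.cons N n : Fin (m + 2) → ℕ) (Fin.castSucc (Fin.last m))) E' ∧
          Grass.IsGrass c E' (n (Fin.last m)) Q₂ t := by
  cases m with
  | zero =>
    haveI := isIso_of_flag_zero hF'
    refine ⟨π ≫ inv π', ⟨by simp, fun i => i.elim0⟩, pb π' E, _, _,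
      SeesawLib.isFinLocFreeOfRank_pullback π' hE, isGrass_bc (q 0) (isGrass_of_flag hF) (f' := 𝟙 F) ?_⟩
    exact IsPullback.of_horiz_isIso ⟨by simp⟩
  | succ m =>
    refine ⟨hF'.lift π (fun i => Q (Fin.castSucc i)) (fun i => hF.rank _) (fun i => q (Fin.castSucc i))
      (fun i => hF.epi _) (fun i j hij => hF.nested _ _ (Fin.castSucc_le_castSucc_iff.mpr hij)),
      ⟨hF'.lift_comp _ _ _ _ _ _, fun i => ⟨hF'.liftIso _ _ _ _ _ _ i, hF'.quotBC_liftIso _ _ _ _ _ _ i⟩⟩,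
      Q' (Fin.last m), _, _, ?_, GrassSch.isGrass_last hF' hF _ (hF'.lift_comp _ _ _ _ _ _)
        (fun i => hF'.liftIso _ _ _ _ _ _ i) (fun i => hF'.quotBC_liftIso _ _ _ _ _ _ i) _
        (hF.nested (Fin.castSucc (Fin.last m)) (Fin.last (m + 1)) (Fin.le_last _)).choose_spec⟩
    have h := hF'.rank (Fin.last m)
    rwa [show Fin.castSucc (Fin.last (m + 1)) = Fin.succ (Fin.castSucc (Fin.last m)) from rfl, Fin.cons_succ]

theorem le_cons {N m : ℕ} {n : Fin (m + 1) → ℕ} (hn : StrictAnti n) (hN : ∀ i, n i < N) :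
    n (Fin.last m) ≤ (Fin.cons N n : Fin (m + 2) → ℕ) (Fin.castSucc (Fin.last m)) := by
  cases m with
  | zero => exact (hN _).le
  | succ m =>
    rw [show Fin.castSucc (Fin.last (m + 1)) = Fin.succ (Fin.castSucc (Fin.last m)) from rfl, Fin.cons_succ]
    exact hn.antitone (Fin.le_last _)

theorem irreducibleSpace_flag [IrreducibleSpace X] {N : ℕ} (hE : FlatMod.IsFinLocFreeOfRank N E) :
    ∀ (m : ℕ) (n : Fin m → ℕ), StrictAnti n → (∀ i, n i < N) → ∀ (F : Scheme.{u}) (π : F ⟶ X)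
      (Q : Fin m → F.Modules) (q : ∀ i, pb π E ⟶ Q i), Grass.IsFlag π E n Q q → IrreducibleSpace F
  | 0, n, _, _, F, π, Q, q, hF => by
    haveI := isIso_of_flag_zero hF
    exact π.homeomorph.irreducibleSpace_iff.mpr inferInstance
  | m + 1, n, hn, hN, F, π, Q, q, hF => by
    obtain ⟨F', π', Q', q', hF'⟩ := exists_isFlag hE m fun i => n (Fin.castSucc i)
    haveI := irreducibleSpace_flag hE m _ (fun i j hij => hn (Fin.castSucc_lt_castSucc_iff.2 hij))
      (fun i => hN _) F' π' Q' q' hF'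
    obtain ⟨c, -, E', Q₂, t, hE', hG⟩ := exists_step hE hF hF'
    exact irreducibleSpace hE' hG (le_cons hn hN)

/-- The relative dimension of a truncation. -/
def relDim (N : ℕ) {m : ℕ} (n : Fin m → ℕ) (k : ℕ) : ℕ :=
  ∑ i : Fin m, if k ≤ (i : ℕ) then n i * ((Fin.cons N n : Fin (m + 1) → ℕ) (Fin.castSucc i) - n i) else 0

theorem relDim_top (N : ℕ) {m : ℕ} (n : Fin m → ℕ) : relDim N n m = 0 :=
  Finset.sum_eq_zero fun i _ => if_neg (Nat.not_le.2 i.2)

theorem relDim_succ (N : ℕ) {m : ℕ} (n : Fin (m + 1) → ℕ) {k : ℕ} (hk : k ≤ m) :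
    relDim N n k = n (Fin.last m) * ((Fin.cons N n : Fin (m + 2) → ℕ) (Fin.castSucc (Fin.last m)) - n (Fin.last m)) +
      relDim N (fun i => n (Fin.castSucc i)) k := by
  rw [relDim, Fin.sum_univ_castSucc, add_comm]
  refine congrArg₂ (· + ·) (if_pos hk) (Finset.sum_congr rfl fun i _ => ?_)
  have h : (Fin.cons N n : Fin (m + 2) → ℕ) (Fin.castSucc (Fin.castSucc i)) =
      (Fin.cons N (fun i => n (Fin.castSucc i)) : Fin (m + 1) → ℕ) (Fin.castSucc i) := by
    cases m with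
    | zero => exact i.elim0
    | succ m =>
      refine Fin.cases ?_ (fun j => ?_) i
      · simp
      · rw [show Fin.castSucc (Fin.castSucc j.succ) = Fin.succ (Fin.castSucc (Fin.castSucc j)) from rfl,
          show Fin.castSucc j.succ = Fin.succ (Fin.castSucc j) from rfl, Fin.cons_succ, Fin.cons_succ]
  simp only [h, Fin.val_castSucc]

/-- The truncation of a flag scheme is smooth, proper and surjective. -/
theorem truncation {N : ℕ} (hE : FlatMod.IsFinLocFreeOfRank N E) :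
    ∀ (m : ℕ) (n : Fin m → ℕ), StrictAnti n → (∀ i, n i < N) → ∀ (F : Scheme.{u}) (π : F ⟶ X)
      (Q : Fin m → F.Modules) (q : ∀ i, pb π E ⟶ Q i), Grass.IsFlag π E n Q q →
      ∀ (k : ℕ) (hk : k ≤ m) (F₀ : Scheme.{u}) (π₀ : F₀ ⟶ X) (Q₀ : Fin k → F₀.Modules)
        (q₀ : ∀ i, pb π₀ E ⟶ Q₀ i), Grass.IsFlag π₀ E (fun i => n (Fin.castLE hk i)) Q₀ q₀ →
        ∃ (d : F ⟶ F₀) (w : d ≫ π₀ = π),
          (∀ i : Fin k, ∃ ι : pb d (Q₀ i) ≅ Q (Fin.castLE hk i), Grass.quotBC w (q₀ i) ≫ ι.hom = q (Fin.castLE hk i)) ∧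
          SmoothOfRelativeDimension (relDim N n k) d ∧ IsProper d ∧ Surjective d := by
  intro m
  induction m with
  | zero =>
    intro n _ _ F π Q q hF k hk F₀ π₀ Q₀ q₀ hF₀
    obtain rfl : k = 0 := by omega
    haveI := isIso_of_flag_zero hF
    haveI := isIso_of_flag_zero hF₀
    refine ⟨π ≫ inv π₀, by simp, fun i => i.elim0, ?_, inferInstance, inferInstance⟩
    rw [relDim_top]
    infer_instance
  | succ m ih =>
    intro n hn hN F π Q q hF k hk F₀ π₀ Q₀ q₀ hF₀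
    rcases Nat.lt_or_ge k (m + 1) with hlt | hge
    · have hkm : k ≤ m := Nat.le_of_lt_succ hlt
      obtain ⟨F', π', Q', q', hF'⟩ := exists_isFlag hE m fun i => n (Fin.castSucc i)
      obtain ⟨d, wd, hκ, hd₁, hd₂, hd₃⟩ := ih _ (fun i j hij => hn (Fin.castSucc_lt_castSucc_iff.2 hij))
        (fun i => hN _) F' π' Q' q' hF' k hkm F₀ π₀ Q₀ q₀ hF₀
      obtain ⟨c, ⟨wc, hι⟩, E', Q₂, t, hE', hG⟩ := exists_step hE hF hF'
      haveI := hd₁; haveI := hd₂; haveI := hd₃
      haveI := smoothOfRelativeDimension hE' hG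
      haveI := FlagSchLib.isProper hE' hG
      haveI := surjective hE' hG (le_cons hn hN)
      refine ⟨c ≫ d, by rw [Category.assoc, wd, wc], fun i => ?_, ?_, inferInstance, inferInstance⟩
      · obtain ⟨κ, hκ'⟩ := hκ i
        obtain ⟨ι, hι'⟩ := hι (Fin.castLE hkm i)
        refine ⟨(stepIso κ c rfl).symm ≪≫ ι, ?_⟩
        rw [← stepIso_spec (q₀ i) wd κ hκ' (rfl : c ≫ d = c ≫ d) wc (by rw [Category.assoc, wd, wc]), Iso.trans_hom,
          Iso.symm_hom, Category.assoc, Iso.hom_inv_id_assoc]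
        exact hι'
      · rw [relDim_succ N n hkm]
        infer_instance
    · obtain rfl : k = m + 1 := by omega
      obtain ⟨d, ⟨wd, e, he⟩, -⟩ := hF₀.univ F π (fun i => Q (Fin.castLE hk i)) (fun i => hF.rank _)
        (fun i => q (Fin.castLE hk i)) (fun i => hF.epi _)
        (fun i j hij => hF.nested _ _ ((Fin.castLE_le_castLE_iff hk).mpr hij))
      obtain ⟨d', ⟨wd', e', he'⟩, -⟩ := hF.univ F₀ π₀ Q₀ hF₀.rank q₀ hF₀.epi hF₀.nested
      haveI : IsIso d := by
        refine ⟨d', (hF.univ F π Q hF.rank q hF.epi hF.nested).unique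
          ⟨by rw [Category.assoc, wd', wd], fun i => (stepIso (e' i) d rfl).symm ≪≫ e i, fun i => ?_⟩
          ⟨Category.id_comp π, fun i => (Scheme.Modules.pullbackId F).app (Q i), fun i => ?_⟩,
          (hF₀.univ F₀ π₀ Q₀ hF₀.rank q₀ hF₀.epi hF₀.nested).unique
          ⟨by rw [Category.assoc, wd, wd'], fun i => (stepIso (e i) d' rfl).symm ≪≫ e' i, fun i => ?_⟩
          ⟨Category.id_comp π₀, fun i => (Scheme.Modules.pullbackId F₀).app (Q₀ i), fun i => ?_⟩⟩
        · rw [← stepIso_spec (q i) wd' (e' i) (he' i) (rfl : d ≫ d' = d ≫ d') wd (by rw [Category.assoc, wd', wd]),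
            Iso.trans_hom, Iso.symm_hom, Category.assoc, Iso.hom_inv_id_assoc]
          exact he i
        · exact quotBC_id (q i)
        · rw [← stepIso_spec (q₀ i) wd (e i) (he i) (rfl : d' ≫ d = d' ≫ d) wd' (by rw [Category.assoc, wd, wd']),
            Iso.trans_hom, Iso.symm_hom, Category.assoc, Iso.hom_inv_id_assoc]
          exact he' i
        · exact quotBC_id (q₀ i)
      refine ⟨d, wd, fun i => ⟨e i, he i⟩, ?_, inferInstance, inferInstance⟩
      rw [relDim_top]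
      infer_instance

end FlagSchLib

end
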