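import Groth.Agent.FlagSchLib.Chart
import Groth.Agent.GrassLib.Global
import Groth.Agent.GrassLib.SchBC

/-!
# Grassmannians of locally free modules are smooth, proper, surjective and irreducible
-/

set_option autoImplicit false
set_option linter.style.haveILetI false
set_option linter.unusedSectionVars false
set_option backward.isDefEq.respectTransparency false

universe u

open AlgebraicGeometry CategoryTheory CategoryTheory.Limits Opposite TopologicalSpace
open KFlatLib (pb puSec puSecLE)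
open ProjFormLib (ger ger_res IsFrame)
open GrassSch

noncomputable section

namespace FlagSchLib

variable {X G : Scheme.{u}} {π : G ⟶ X} {E : X.Modules} {r : ℕ} {Q : G.Modules} {q : pb π E ⟶ Q}
  {N : ℕ} (hE : FlatMod.IsFinLocFreeOfRank N E) (hG : Grass.IsGrass π E r Q q)

include hE hG

theorem smoothOfRelativeDimension : SmoothOfRelativeDimension (r * (N - r)) π := by
  haveI := isQCoh_of_rank hE
  choose U b hU hy hb using exists_frame_affine hE
  choose σ hσ using fun z : G => exists_mem_chart hG (hU (π z)) (hb (π z)) (z := z) (hy (π z))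
  rw [IsZariskiLocalAtSource.iff_of_iSup_eq_top (P := @SmoothOfRelativeDimension (r * (N - r)))
    (fun z : G => chart hG (σ z) (b (π z))) (top_le_iff.1 fun z _ => Opens.mem_iSup.2 ⟨z, hσ z⟩)]
  intro z
  obtain ⟨e, he⟩ := exists_chart_iso hG (hU (π z)) (hb (π z)) (σ z)
  rw [← he, MorphismProperty.cancel_left_of_respectsIso (P := @SmoothOfRelativeDimension (r * (N - r)))]
  haveI : SmoothOfRelativeDimension (r * (N - r)) (Spec.map (CommRingCat.ofHom
      (MvPolynomial.C : Γ(X, U (π z)) →+* MvPolynomial (ULift.{u} (Fin (r * (N - r)))) Γ(X, U (π z))))) := by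
    rw [HasRingHomProperty.Spec_iff (P := @SmoothOfRelativeDimension (r * (N - r)))]
    haveI := GrassLib.isStandardSmooth_mvPolynomial Γ(X, U (π z)) (ULift.{u} (Fin (r * (N - r)))) _ Equiv.ulift
    exact RingHom.locally_of RingHom.isStandardSmoothOfRelativeDimension_respectsIso _
      ((RingHom.isStandardSmoothOfRelativeDimension_algebraMap _).mpr inferInstance)
  exact smoothOfRelativeDimension_comp (n := r * (N - r)) (m := 0) _ (hU (π z)).fromSpec

theorem surjective (hr : r ≤ N) : Surjective π := by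
  haveI := isQCoh_of_rank hE
  refine ⟨fun y => ?_⟩
  obtain ⟨U, b, hU, hy, hb⟩ := exists_frame_affine hE y
  let σ : Fin r ↪ Fin N := (Fin.castLEEmb hr)
  obtain ⟨e, he⟩ := exists_chart_iso hG hU hb σ
  let s : Spec Γ(X, U) ⟶ Spec (CommRingCat.of (MvPolynomial (ULift.{u} (Fin (r * (N - r)))) Γ(X, U))) :=
    Spec.map (CommRingCat.ofHom (MvPolynomial.constantCoeff (R := Γ(X, U))))
  have hs : s ≫ Spec.map (CommRingCat.ofHom MvPolynomial.C) = 𝟙 _ := by
    show Spec.map _ ≫ Spec.map _ = _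
    rw [← Spec.map_comp, ← Spec.map_id]
    congr 1
    ext c
    exact MvPolynomial.constantCoeff_C _ c
  refine ⟨(s ≫ e.inv ≫ (chart hG σ b).ι) (hU.primeIdealOf ⟨y, hy⟩), ?_⟩
  rw [← Scheme.Hom.comp_apply, Category.assoc, Category.assoc, ← he, Iso.inv_hom_id_assoc, ← Category.assoc, hs,
    Category.id_comp]
  exact hU.fromSpec_primeIdealOf ⟨y, hy⟩

omit hE in
theorem exists_iso {G' : Scheme.{u}} {π' : G' ⟶ X} {Q' : G'.Modules} {q' : pb π' E ⟶ Q'}
    (hG' : Grass.IsGrass π' E r Q' q') : ∃ c : G ⟶ G', IsIso c ∧ c ≫ π' = π := by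
  obtain ⟨c, hc⟩ := exists_classify hG' (univPt hG)
  obtain ⟨d, hd⟩ := exists_classify hG (univPt hG')
  have hcd : c ≫ d = 𝟙 G := classify_unique hG
    (((QPt.map_comp_rel c d _).symm.trans ((QPt.map_rel c hd).trans hc)).trans (univPt hG).map_id_rel.symm)
  have hdc : d ≫ c = 𝟙 G' := classify_unique hG'
    (((QPt.map_comp_rel d c _).symm.trans ((QPt.map_rel d hc).trans hd)).trans (univPt hG').map_id_rel.symm)
  exact ⟨c, ⟨d, hcd, hdc⟩, hc.1⟩

theorem isProper : IsProper π := by
  choose U b hU hy hb using exists_frame_affine hE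
  rw [IsZariskiLocalAtTarget.iff_of_iSup_eq_top (P := @IsProper) U
    (top_le_iff.1 fun y _ => Opens.mem_iSup.2 ⟨y, hy y⟩)]
  intro y
  have hsq : IsPullback (π ⁻¹ᵁ U y).ι (π ∣_ U y) π (U y).ι := (isPullback_morphismRestrict π (U y)).flip
  obtain ⟨φ⟩ := CohCmpLib.exists_iso_freeMod_of_frame
    (CohCmpLib.isFrame_puSecLE (U y).ι (hb y) (V := (⊤ : (U y : Scheme.{u}).Opens)) (fun z _ => z.2))
  have h1 := isGrass_of_iso φ (isGrass_bc q hG hsq)
  obtain ⟨G', π', Q', q', hG', hp, -⟩ := exists_isGrass_free (U y : Scheme.{u}) N r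
  obtain ⟨c, hc, hcπ⟩ := exists_iso h1 hG'
  rw [← hcπ]
  infer_instance

theorem irreducibleSpace (hr : r ≤ N) [IrreducibleSpace X] : IrreducibleSpace G := by
  classical
  haveI := isQCoh_of_rank hE
  have hsurj := (surjective hE hG hr).surj
  have hopen : IsOpenMap π := by
    haveI := smoothOfRelativeDimension hE hG
    haveI : Smooth π := SmoothOfRelativeDimension.smooth (r * (N - r)) π
    haveI : UniversallyOpen π := inferInstance
    exact π.isOpenMap
  haveI : Nonempty G := ⟨(hsurj (Classical.arbitrary X)).choose⟩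
  haveI : PreirreducibleSpace G := ⟨fun W₁ W₂ hW₁ hW₂ h₁ h₂ => by
    rw [Set.univ_inter] at h₁ h₂ ⊢
    obtain ⟨y, hy₁, hy₂⟩ := nonempty_preirreducible_inter (hopen W₁ hW₁) (hopen W₂ hW₂) (h₁.image _) (h₂.image _)
    obtain ⟨z₁, hz₁, e₁⟩ := hy₁
    obtain ⟨z₂, hz₂, e₂⟩ := hy₂
    obtain ⟨U, b, hU, hy, hb⟩ := exists_frame_affine hE y
    obtain ⟨σ, hσ⟩ := exists_mem_chart hG hU hb (z := z₁) (e₁ ▸ hy)
    obtain ⟨τ, hτ⟩ := exists_mem_chart hG hU hb (z := z₂) (e₂ ▸ hy)
    have hirr : ∀ ρ : Fin r ↪ Fin N, IsPreirreducible (chart hG ρ b : Set G) := fun ρ => by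
      obtain ⟨e, -⟩ := exists_chart_iso hG hU hb ρ
      haveI : IrreducibleSpace (Spec Γ(X, U)) := by
        haveI : Nonempty U := ⟨⟨y, hy⟩⟩
        haveI : IrreducibleSpace ↥(U : Set X) :=
          Subtype.irreducibleSpace ⟨⟨y, hy⟩, (PreirreducibleSpace.isPreirreducible_univ (X := X)).open_subset U.2 (Set.subset_univ _)⟩
        let h : ↥(Spec Γ(X, U)) ≃ₜ ↥(U : Set X) :=
          hU.fromSpec.isOpenEmbedding.isEmbedding.toHomeomorph.trans (Homeomorph.setCongr hU.range_fromSpec)
        exact h.irreducibleSpace_iff.mpr inferInstance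
      have hnil : (nilradical Γ(X, U)).IsPrime :=
        PrimeSpectrum.irreducibleSpace_iff_isPrime_nilradical.mp ‹_›
      have hnil' : (nilradical (MvPolynomial (ULift.{u} (Fin (r * (N - r)))) Γ(X, U))).IsPrime := by
        have hk : nilradical (MvPolynomial (ULift.{u} (Fin (r * (N - r)))) Γ(X, U)) =
            RingHom.ker (MvPolynomial.map (σ := ULift.{u} (Fin (r * (N - r)))) (Ideal.Quotient.mk (nilradical Γ(X, U)))) := by
          ext p
          rw [mem_nilradical, RingHom.mem_ker, MvPolynomial.isNilpotent_iff, MvPolynomial.ext_iff]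
          refine forall_congr' fun m => ?_
          rw [MvPolynomial.coeff_map, MvPolynomial.coeff_zero, Ideal.Quotient.eq_zero_iff_mem, mem_nilradical]
        rw [hk]
        exact RingHom.ker_isPrime _
      haveI : IrreducibleSpace (Spec (CommRingCat.of (MvPolynomial (ULift.{u} (Fin (r * (N - r)))) Γ(X, U)))) :=
        PrimeSpectrum.irreducibleSpace_iff_isPrime_nilradical.mpr hnil'
      have hr' : (chart hG ρ b : Set G) = Set.range (e.inv ≫ (chart hG ρ b).ι) := by
        rw [Scheme.Hom.comp_base, TopCat.coe_comp, Set.range_comp, Set.range_eq_univ.mpr e.inv.surjective,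
          Set.image_univ, Scheme.Opens.range_ι]
      rw [hr', ← Set.image_univ]
      exact (PreirreducibleSpace.isPreirreducible_univ).image _ (e.inv ≫ (chart hG ρ b).ι).continuous.continuousOn
    obtain ⟨w, hw, hwW, hwτ⟩ := hirr σ W₁ (chart hG τ b : Set G) hW₁ (chart hG τ b).2 ⟨z₁, hσ, hz₁⟩
      ((exists_pt_two_charts hG hU hb σ τ hy).mono fun v hv => ⟨hv.1, hv.2⟩)
    obtain ⟨v, hv, hv₁, hv₂⟩ := hirr τ W₁ W₂ hW₁ hW₂ ⟨w, hwτ, hwW⟩ ⟨z₂, hτ, hz₂⟩
    exact ⟨v, hv₁, hv₂⟩⟩
  exact ⟨inferInstance⟩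

end FlagSchLib

end
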